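import Groth.Prelude.Def_LefPen
import Mathlib

/-!
# Forms tangent to two linear spaces at two points
-/

set_option autoImplicit false
set_option linter.style.haveILetI false
set_option linter.unusedSectionVars false

universe u

open MvPolynomial Module

namespace Groth.Agent.TangForms

variable {k : Type u} [Field k] {r d : ℕ}

local notation "V" => (Fin (r + 1) → k)

instance : Module.Finite k (LefPen.Form r k d) :=
  Module.Finite.of_injective
    (Submodule.inclusion (show CohB1.polyGrading r k d ≤ restrictTotalDegree (Fin (r + 1)) k d from fun p hp =>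
      (mem_restrictTotalDegree _ _ _).mpr hp.totalDegree_le))
    (Submodule.inclusion_injective _)

/-- The differential of a form at a point. -/
noncomputable def dd (v : V) : LefPen.Form r k d →ₗ[k] Dual k V :=
  ∑ i : Fin (r + 1), ((MvPolynomial.aeval v).toLinearMap ∘ₗ (MvPolynomial.pderiv i).toLinearMap ∘ₗ
    (CohB1.polyGrading r k d).subtype).smulRight (LinearMap.proj i)

/-- The value of a form at a point. -/
noncomputable def vv (v : V) : LefPen.Form r k d →ₗ[k] k :=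
  (MvPolynomial.aeval v).toLinearMap ∘ₗ (CohB1.polyGrading r k d).subtype

theorem dd_apply (v : V) (G : LefPen.Form r k d) (w : V) :
    dd v G w = ∑ i, MvPolynomial.aeval v (pderiv i G.1) * w i := by
  simp [dd, LinearMap.sum_apply]

theorem vv_apply (v : V) (G : LefPen.Form r k d) : vv v G = MvPolynomial.aeval v G.1 := rfl

theorem mem_ker_tangLin (W : Submodule k V) (v : V) (G : LefPen.Form r k d) :
    G ∈ LinearMap.ker (LefPen.tangLin k W v) ↔ vv v G = 0 ∧ ∀ w ∈ W, dd v G w = 0 := by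
  rw [LinearMap.mem_ker, LefPen.tangLin, LinearMap.prod_apply, Prod.ext_iff]
  refine and_congr Iff.rfl ⟨fun h w hw => ?_, fun h => funext fun w => ?_⟩
  · have := congr_fun h ⟨w, hw⟩
    simpa [dd_apply, LinearMap.pi_apply, LinearMap.sum_apply, mul_comm] using this
  · simpa [dd_apply, LinearMap.pi_apply, LinearMap.sum_apply, mul_comm] using h w.1 w.2

theorem euler (v : V) (G : LefPen.Form r k d) : dd v G v = (d : k) * vv v G := by
  have := congrArg (MvPolynomial.aeval v) (((mem_homogeneousSubmodule d G.1).mp G.2).sum_X_mul_pderiv)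
  rw [map_sum] at this
  rw [dd_apply, vv_apply]
  simpa [mul_comm] using this

theorem dd_symm (v w : V) (G : LefPen.Form r k d) (hd : d = 2) : dd v G w = dd w G v := by
  subst hd
  have hG : G.1 ∈ homogeneousSubmodule (Fin (r + 1)) k 2 := G.2
  rw [← homogeneousSubmodule_one_pow, pow_two, homogeneousSubmodule_one_eq_span_X, Submodule.span_mul_span] at hG
  rw [dd_apply, dd_apply]
  generalize G.1 = p at hG ⊢
  induction hG using Submodule.span_induction with
  | mem x hx =>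
    obtain ⟨_, ⟨i, rfl⟩, _, ⟨j, rfl⟩, rfl⟩ := hx
    simp only [Derivation.leibniz, pderiv_X, smul_eq_mul, map_add, map_mul, aeval_X, add_mul,
      Finset.sum_add_distrib, Pi.single_apply, apply_ite (MvPolynomial.aeval v), apply_ite (MvPolynomial.aeval w),
      map_one, map_zero, mul_ite, mul_one, mul_zero, ite_mul, zero_mul, Finset.sum_ite_eq, Finset.mem_univ, if_true]
    ring
  | zero => simp
  | add x y _ _ hx hy => simp only [map_add, add_mul, Finset.sum_add_distrib, hx, hy]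
  | smul c x _ hx =>
    simp only [map_smul, Derivation.map_smul, smul_eq_mul, mul_assoc, ← Finset.mul_sum]
    rw [hx]

/-- The linear form attached to a functional. -/
noncomputable def lin (l : Dual k V) : MvPolynomial (Fin (r + 1)) k :=
  ∑ i, l (Pi.single i 1) • X i

theorem lin_mem (l : Dual k V) : (lin l).IsHomogeneous 1 :=
  IsHomogeneous.sum _ _ _ fun i _ => by
    rw [smul_eq_C_mul]
    exact (isHomogeneous_X k i).C_mul _

theorem apply_eq_sum (l : Dual k V) (v : V) : l v = ∑ i, v i * l (Pi.single i 1) := by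
  conv_lhs => rw [← Finset.univ_sum_single v]
  rw [map_sum]
  refine Finset.sum_congr rfl fun i _ => ?_
  rw [← smul_eq_mul, ← map_smul]
  congr 1
  ext j
  simp [Pi.single_apply]

theorem aeval_lin (l : Dual k V) (v : V) : MvPolynomial.aeval v (lin l) = l v := by
  rw [apply_eq_sum l v]
  simp [lin, mul_comm]

theorem pderiv_lin (l : Dual k V) (i : Fin (r + 1)) : pderiv i (lin l) = C (l (Pi.single i 1)) := by
  simp [lin, pderiv_X, Pi.single_apply, smul_eq_C_mul]

variable {m : ℕ} (hm : m + 1 = d)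

/-- The form `a ^ m * l`. -/
noncomputable def prodForm (a l : Dual k V) : LefPen.Form r k d :=
  ⟨lin a ^ m * lin l, (mem_homogeneousSubmodule d _).mpr (by
    have := ((lin_mem a).pow m).mul (lin_mem l)
    rwa [one_mul, hm] at this)⟩

theorem vv_prodForm (a l : Dual k V) (v : V) : vv v (prodForm hm a l) = a v ^ m * l v := by
  rw [vv_apply, prodForm, map_mul, map_pow, aeval_lin, aeval_lin]

theorem dd_prodForm (a l : Dual k V) (v w : V) :
    dd v (prodForm hm a l) w = a v ^ m * l w + (m : k) * a v ^ (m - 1) * a w * l v := by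
  rw [apply_eq_sum l w, apply_eq_sum a w, dd_apply, Finset.mul_sum, Finset.mul_sum, Finset.sum_mul,
    ← Finset.sum_add_distrib]
  refine Finset.sum_congr rfl fun i _ => ?_
  simp only [prodForm, Derivation.leibniz, Derivation.leibniz_pow, pderiv_lin, smul_eq_mul, nsmul_eq_mul,
    map_add, map_mul, map_pow, map_natCast, aeval_lin, aeval_C, Algebra.algebraMap_self, RingHom.id_apply]
  ring

/-- Conditions at one point. -/
noncomputable def cond (U : Submodule k V) (v : V) : LefPen.Form r k d →ₗ[k] k × Dual k U :=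
  LinearMap.prod (vv v) (U.subtype.dualMap ∘ₗ dd v)

theorem cond_prodForm (U : Submodule k V) (v : V) (a l : Dual k V) :
    cond U v (prodForm hm a l) =
      (a v ^ m * l v, U.subtype.dualMap (a v ^ m • l + ((m : k) * a v ^ (m - 1) * l v) • a)) := by
  refine Prod.ext (vv_prodForm hm a l v) (LinearMap.ext fun w => ?_)
  show dd v (prodForm hm a l) w.1 = _
  rw [dd_prodForm]
  simp
  ring

theorem extend_dual (U : Submodule k V) {p : V} {ψ : Dual k V} (hψ : ψ p = 1) (hψU : U ≤ LinearMap.ker ψ)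
    (c : k) (g : Dual k U) : ∃ l : Dual k V, l p = c ∧ U.subtype.dualMap l = g := by
  obtain ⟨g', hg'⟩ := g.exists_extend
  refine ⟨g' + (c - g' p) • ψ, by simp [hψ], LinearMap.ext fun w => ?_⟩
  have h0 : ψ w.1 = 0 := hψU w.2
  have h1 := LinearMap.congr_fun hg' w
  simpa [h0] using h1

/-- The form `a ^ m * l` realises every value of the conditions at a point where `a = 1`. -/
theorem exists_cond (U : Submodule k V) {v : V} (a ψ : Dual k V) (ha : a v = 1) (hψ : ψ v = 1)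
    (hψU : U ≤ LinearMap.ker ψ) (S : Submodule k V) (u : k × Dual k U)
    (hS : S = ⊥ ∨ ∃ p : V, S = k ∙ p ∧ p ≠ 0 ∧ ψ p = 0 ∧ ∃ φ : Dual k V, φ p = 1 ∧ φ v = 0 ∧ U ≤ LinearMap.ker φ) :
    ∃ l : Dual k V, S ≤ LinearMap.ker l ∧ cond U v (prodForm hm a l) = u := by
  obtain ⟨l, hl, hg⟩ := extend_dual U hψ hψU u.1 (u.2 - ((m : k) * u.1) • U.subtype.dualMap a)
  obtain rfl | ⟨p, rfl, -, hp, φ, hφp, hφv, hφU⟩ := hS
  · refine ⟨l, bot_le, ?_⟩
    rw [cond_prodForm]
    simp only [ha, one_pow, one_mul, mul_one, one_smul, hl, map_add, map_smul, hg]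
    simp
  · have hUφ : U.subtype.dualMap φ = 0 := LinearMap.ext fun w => hφU w.2
    refine ⟨l - l p • φ, ?_, ?_⟩
    · rw [Submodule.span_singleton_le_iff_mem, LinearMap.mem_ker]
      simp [hφp]
    · rw [cond_prodForm]
      simp [ha, hl, hg, hφv, hUφ]

/-- Two independent sets of conditions. -/
theorem surjective_pair (U₁ U₂ : Submodule k V) (v₁ v₂ : V)
    (h1 : ∀ u : k × Dual k U₁, ∃ G : LefPen.Form r k d, cond U₁ v₁ G = u)
    (h2 : ∀ u : k × Dual k U₂, ∃ G : LefPen.Form r k d, cond U₁ v₁ G = 0 ∧ cond U₂ v₂ G = u) :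
    Function.Surjective ((cond (d := d) U₁ v₁).prod (cond U₂ v₂)) := by
  rintro ⟨x, y⟩
  obtain ⟨G₁, hG₁⟩ := h1 x
  obtain ⟨G₂, hG₂, hG₂'⟩ := h2 (y - cond U₂ v₂ G₁)
  exact ⟨G₁ + G₂, Prod.ext (by simp [hG₁, hG₂]) (by simp [hG₂'])⟩

theorem finrank_eq (U₁ U₂ : Submodule k V) (v₁ v₂ : V)
    (hs : Function.Surjective ((cond (d := d) U₁ v₁).prod (cond U₂ v₂))) :
    finrank k (LefPen.Form r k d) =
      finrank k (LinearMap.ker ((cond (d := d) U₁ v₁).prod (cond U₂ v₂))) + (finrank k U₁ + 1 + (finrank k U₂ + 1)) := by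
  have := LinearMap.finrank_range_add_finrank_ker ((cond (d := d) U₁ v₁).prod (cond U₂ v₂))
  rw [LinearMap.range_eq_top.mpr hs, finrank_top, finrank_prod, finrank_prod, finrank_prod, finrank_self,
    Subspace.dual_finrank_eq, Subspace.dual_finrank_eq] at this
  omega

theorem mem_ker_cond (U : Submodule k V) (v : V) (G : LefPen.Form r k d) :
    cond U v G = 0 ↔ vv v G = 0 ∧ ∀ w ∈ U, dd v G w = 0 := by
  rw [Prod.ext_iff]
  exact and_congr Iff.rfl ⟨fun h w hw => LinearMap.congr_fun h ⟨w, hw⟩, fun h => LinearMap.ext fun w => h w.1 w.2⟩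

theorem ker_cond_eq (W : Submodule k V) {v : V} (hvW : v ∈ W) (a : Dual k V) (ha : a v = 1) :
    LinearMap.ker (cond (d := d) (W ⊓ LinearMap.ker a) v) = LinearMap.ker (LefPen.tangLin k W v) := by
  ext G
  rw [LinearMap.mem_ker, mem_ker_cond, mem_ker_tangLin]
  refine ⟨fun ⟨h0, h⟩ => ⟨h0, fun w hw => ?_⟩, fun ⟨h0, h⟩ => ⟨h0, fun w hw => h w hw.1⟩⟩
  have := h (w - a w • v) ⟨W.sub_mem hw (W.smul_mem _ hvW), by simp [ha]⟩
  simpa [euler, h0] using this

theorem finrank_inf_ker (W : Submodule k V) {v : V} (hvW : v ∈ W) (a : Dual k V) (ha : a v = 1) :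
    finrank k ↥(W ⊓ LinearMap.ker a) + 1 = finrank k W := by
  have h := LinearMap.finrank_range_add_finrank_ker (a ∘ₗ W.subtype)
  have hs : Function.Surjective (a ∘ₗ W.subtype) := fun c => ⟨c • ⟨v, hvW⟩, by simp [ha]⟩
  rw [LinearMap.range_eq_top.mpr hs, finrank_top, finrank_self, LinearMap.ker_comp] at h
  have e := ((Submodule.equivMapOfInjective W.subtype W.injective_subtype _).trans
    (LinearEquiv.ofEq _ _ (Submodule.map_comap_subtype W (LinearMap.ker a)))).finrank_eq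
  omega

theorem exists_dual_pair {v₁ v₂ : V} (hv : LinearIndependent k ![v₁, v₂]) :
    ∃ a : Dual k V, a v₁ = 1 ∧ a v₂ = 0 := by
  have hn : v₁ ∉ (k ∙ v₂) := by
    rw [Submodule.mem_span_singleton]
    rintro ⟨c, hc⟩
    have := LinearIndependent.pair_iff.mp hv 1 (-c) (by rw [neg_smul, one_smul, ← hc, add_neg_cancel])
    exact one_ne_zero this.1
  obtain ⟨f, hf, hfS⟩ := Submodule.exists_dual_map_eq_bot_of_notMem hn inferInstance
  refine ⟨(f v₁)⁻¹ • f, by simp [inv_mul_cancel₀ hf], ?_⟩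
  have h2 : f v₂ ∈ (k ∙ v₂).map f := ⟨v₂, Submodule.mem_span_singleton_self v₂, rfl⟩
  rw [hfS, Submodule.mem_bot] at h2
  simp [h2]

theorem finrank_general (hm : m + 1 = d) (hm1 : 1 ≤ m) (W₁ W₂ : Submodule k V) {v₁ v₂ : V}
    (h₁ : v₁ ∈ W₁) (h₂ : v₂ ∈ W₂) (hv : LinearIndependent k ![v₁, v₂]) (hnd : 3 ≤ d ∨ v₂ ∉ W₁) :
    finrank k (LefPen.Form r k d) =
      finrank k ↥(LefPen.tangentForms k d W₁ v₁ W₂ v₂) + (finrank k ↥W₁ + finrank k ↥W₂) := by
  obtain ⟨a, ha, -⟩ := exists_dual_pair hv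
  obtain ⟨b, hb, hb1, hbW⟩ : ∃ b : Dual k V, b v₂ = 1 ∧ b v₁ = 0 ∧ (3 ≤ d ∨ W₁ ≤ LinearMap.ker b) := by
    rcases hnd with h | h
    · obtain ⟨b, hb, hb1⟩ := exists_dual_pair (v₁ := v₂) (v₂ := v₁) (LinearIndependent.pair_symm_iff.mp hv)
      exact ⟨b, hb, hb1, Or.inl h⟩
    · obtain ⟨f, hf, hfS⟩ := Submodule.exists_dual_map_eq_bot_of_notMem h inferInstance
      have h0 : ∀ w ∈ W₁, f w = 0 := fun w hw => by
        have h2 : f w ∈ W₁.map f := ⟨w, hw, rfl⟩
        rwa [hfS, Submodule.mem_bot] at h2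
      exact ⟨(f v₂)⁻¹ • f, by simp [inv_mul_cancel₀ hf], by simp [h0 v₁ h₁],
        Or.inr fun w hw => by simp [h0 w hw]⟩
  have hs := surjective_pair (d := d) (W₁ ⊓ LinearMap.ker a) (W₂ ⊓ LinearMap.ker b) v₁ v₂
    (fun u => by
      obtain ⟨l, -, hl⟩ := exists_cond hm (W₁ ⊓ LinearMap.ker a) a a ha ha inf_le_right ⊥ u (Or.inl rfl)
      exact ⟨_, hl⟩)
    (fun u => by
      obtain ⟨l, -, hl⟩ := exists_cond hm (W₂ ⊓ LinearMap.ker b) b b hb hb inf_le_right ⊥ u (Or.inl rfl)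
      refine ⟨prodForm hm b l, (mem_ker_cond _ _ _).mpr ⟨?_, fun w hw => ?_⟩, hl⟩
      · rw [vv_prodForm, hb1, zero_pow (by omega), zero_mul]
      · rw [dd_prodForm, hb1, zero_pow (by omega), zero_mul, zero_add]
        rcases hbW with h | h
        · rw [zero_pow (by omega)]; simp
        · simp [LinearMap.mem_ker.mp (h hw.1)])
  have h := finrank_eq _ _ v₁ v₂ hs
  rw [LinearMap.ker_prod, ker_cond_eq W₁ h₁ a ha, ker_cond_eq W₂ h₂ b hb] at h
  rw [← finrank_inf_ker W₁ h₁ a ha, ← finrank_inf_ker W₂ h₂ b hb]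
  exact h

theorem tangentForms_comm (W₁ W₂ : Submodule k V) (v₁ v₂ : V) :
    LefPen.tangentForms k d W₁ v₁ W₂ v₂ = LefPen.tangentForms k d W₂ v₂ W₁ v₁ :=
  inf_comm _ _

theorem finrank_degenerate (hd : d = 2) (W₁ W₂ : Submodule k V) {v₁ v₂ : V}
    (h₁ : v₁ ∈ W₁) (h₂ : v₂ ∈ W₂) (hv : LinearIndependent k ![v₁, v₂]) (h₁₂ : v₂ ∈ W₁) (h₂₁ : v₁ ∈ W₂) :
    finrank k (LefPen.Form r k d) + 1 =
      finrank k ↥(LefPen.tangentForms k d W₁ v₁ W₂ v₂) + (finrank k ↥W₁ + finrank k ↥W₂) := by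
  have hm : (1 : ℕ) + 1 = d := hd.symm
  obtain ⟨a, ha, ha2⟩ := exists_dual_pair hv
  obtain ⟨b, hb, hb1⟩ := exists_dual_pair (v₁ := v₂) (v₂ := v₁) (LinearIndependent.pair_symm_iff.mp hv)
  let U₂ : Submodule k V := W₂ ⊓ LinearMap.ker b ⊓ LinearMap.ker a
  have hs := surjective_pair (d := d) (W₁ ⊓ LinearMap.ker a) U₂ v₁ v₂
    (fun u => by
      obtain ⟨l, -, hl⟩ := exists_cond hm (W₁ ⊓ LinearMap.ker a) a a ha ha inf_le_right ⊥ u (Or.inl rfl)
      exact ⟨_, hl⟩)
    (fun u => by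
      obtain ⟨l, hlp, hl⟩ := exists_cond hm U₂ b b hb hb (inf_le_left.trans inf_le_right) (k ∙ v₁) u
        (Or.inr ⟨v₁, rfl, fun h => by simp [h] at ha, hb1, a, ha, ha2, inf_le_right⟩)
      have hl0 : l v₁ = 0 := hlp (Submodule.mem_span_singleton_self v₁)
      refine ⟨prodForm hm b l, (mem_ker_cond _ _ _).mpr ⟨?_, fun w hw => ?_⟩, hl⟩
      · rw [vv_prodForm, hb1]; simp
      · rw [dd_prodForm, hb1, hl0]; simp)
  have h := finrank_eq _ _ v₁ v₂ hs
  have hk : LinearMap.ker ((cond (d := d) (W₁ ⊓ LinearMap.ker a) v₁).prod (cond U₂ v₂)) =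
      LefPen.tangentForms k d W₁ v₁ W₂ v₂ := by
    rw [LinearMap.ker_prod, LefPen.tangentForms, ker_cond_eq W₁ h₁ a ha, ← ker_cond_eq W₂ h₂ b hb]
    refine le_antisymm (fun G hG => ⟨hG.1, ?_⟩) (fun G hG => ⟨hG.1, ?_⟩)
    · exact (mem_ker_cond _ _ _).mpr ⟨((mem_ker_cond _ _ _).mp hG.2).1,
        fun w hw => ((mem_ker_cond _ _ _).mp hG.2).2 w (Submodule.mem_inf.mp hw).1⟩
    · obtain ⟨hG1, hG2⟩ := hG
      obtain ⟨h0, hU⟩ := (mem_ker_cond _ _ _).mp hG2
      obtain ⟨-, hW⟩ := (mem_ker_tangLin _ _ _).mp hG1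
      refine (mem_ker_cond _ _ _).mpr ⟨h0, fun w hw => ?_⟩
      have h21 : dd v₂ G v₁ = 0 := (dd_symm v₂ v₁ G hd).trans (hW v₂ h₁₂)
      obtain ⟨hwW, hwb⟩ := Submodule.mem_inf.mp hw
      have hmem : w - a w • v₁ ∈ U₂ := by
        simp only [U₂, Submodule.mem_inf, LinearMap.mem_ker] at hwb ⊢
        exact ⟨⟨W₂.sub_mem hwW (W₂.smul_mem _ h₂₁), by simp [hwb, hb1]⟩, by simp [ha]⟩
      have := hU (w - a w • v₁) hmem
      simpa [h21] using this
  rw [hk] at h
  rw [← finrank_inf_ker W₁ h₁ a ha, ← finrank_inf_ker W₂ h₂ b hb,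
    ← finrank_inf_ker (W₂ ⊓ LinearMap.ker b) (v := v₁) ⟨h₂₁, hb1⟩ a ha]
  show finrank k (LefPen.Form r k d) + 1 = finrank k ↥(LefPen.tangentForms k d W₁ v₁ W₂ v₂) +
    (finrank k ↥(W₁ ⊓ LinearMap.ker a) + 1 + (finrank k ↥U₂ + 1 + 1))
  omega

end Groth.Agent.TangForms
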